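import Groth.Agent.HensPair.Truncation
import Groth.Agent.HensPair.Ops
import Groth.Agent.HensPair.Basic
import Groth.Agent.DescentBase.FlatTower
import Groth.Agent.FlatMorOne.FlatLocusOpen
import Mathlib.RingTheory.Smooth.Fiber
import Mathlib.RingTheory.Unramified.Locus
import Mathlib.RingTheory.Kaehler.TensorProduct

/-! Spreading out flatness, smoothness and étaleness from henselizations of pairs. -/

set_option autoImplicit false
set_option linter.style.haveILetI false
universe u

open TensorProduct

namespace Groth.Misc12.HensSpread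

open Hens2 Groth.HensPair

theorem exists_localization {A : Type u} [CommRing A] {I : Ideal A} {R B : Type u} [CommRing R]
    [CommRing B] [Algebra A R] [Algebra R B] [Algebra A B] [IsScalarTower A R B]
    [Algebra.FinitePresentation A R]
    (hB : IsPairHenselization R (I.map (algebraMap A R)) B)
    (g : R) (hg : g - 1 ∈ I.map (algebraMap A R)) :
    ∃ (_ : Algebra (Localization.Away g) B) (_ : IsScalarTower A (Localization.Away g) B),
      Algebra.FinitePresentation A (Localization.Away g) ∧
      IsPairHenselization (Localization.Away g) (I.map (algebraMap A (Localization.Away g))) B := by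
  have hu : IsUnit (algebraMap R B g) := by
    have h1 : algebraMap R B g - 1 ∈ (I.map (algebraMap A R)).map (algebraMap R B) := by
      rw [← map_one (algebraMap R B), ← map_sub]; exact Ideal.mem_map_of_mem _ hg
    have := Ideal.mem_jacobson_bot.1 (hB.1.jac h1) 1
    simpa using this
  let φ : Localization.Away g →+* B := IsLocalization.Away.lift g hu
  letI : Algebra (Localization.Away g) B := φ.toAlgebra
  haveI : IsScalarTower R (Localization.Away g) B :=
    IsScalarTower.of_algebraMap_eq fun r => (IsLocalization.Away.lift_eq g hu r).symm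
  have ht : IsScalarTower A (Localization.Away g) B := IsScalarTower.of_algebraMap_eq fun a => by
    rw [IsScalarTower.algebraMap_apply A R (Localization.Away g),
      ← IsScalarTower.algebraMap_apply R (Localization.Away g) B, ← IsScalarTower.algebraMap_apply]
  haveI : Algebra.FinitePresentation R (Localization.Away g) := IsLocalization.Away.finitePresentation g
  refine ⟨inferInstance, ht, Algebra.FinitePresentation.trans A R _, ?_⟩
  have h := isPairHenselization_of_isNbhd hB (A' := Localization.Away g) (isNbhd_away hg _)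
  rwa [Ideal.map_map, ← IsScalarTower.algebraMap_eq] at h

theorem exists_flat {A : Type u} [CommRing A] {I : Ideal A} {R B : Type u} [CommRing R]
    [CommRing B] [Algebra A R] [Algebra R B] [Algebra A B] [IsScalarTower A R B]
    [Algebra.FinitePresentation A R]
    (hB : IsPairHenselization R (I.map (algebraMap A R)) B) [Module.Flat A B] :
    ∃ (S : Type u) (_ : CommRing S) (_ : Algebra A S) (_ : Algebra S B) (_ : IsScalarTower A S B),
      Algebra.FinitePresentation A S ∧ Module.Flat A S ∧
      IsPairHenselization S (I.map (algebraMap A S)) B := by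
  have := flat_of_isPairHenselization hB
  have hsub : PrimeSpectrum.zeroLocus (I.map (algebraMap A R) : Set R) ⊆
      {q : PrimeSpectrum R | Module.Flat A (LocalizedModule q.asIdeal.primeCompl R)} := by
    intro q hq
    show Module.Flat A (Localization.AtPrime q.asIdeal)
    rw [PrimeSpectrum.mem_zeroLocus] at hq
    have hq' : I.map (algebraMap A R) ≤ q.asIdeal := hq
    have hbij := quotientMap_bijective_of_isPairHenselization hB
    -- the prime of `B` over `q`
    let π : B →+* R ⧸ I.map (algebraMap A R) :=
      (RingEquiv.ofBijective _ hbij).symm.toRingHom.comp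
        (Ideal.Quotient.mk ((I.map (algebraMap A R)).map (algebraMap R B)))
    have hπ : ∀ r, π (algebraMap R B r) = Ideal.Quotient.mk (I.map (algebraMap A R)) r := fun r => by
      show (RingEquiv.ofBijective _ hbij).symm _ = _
      rw [RingEquiv.symm_apply_eq]
      exact (Ideal.quotientMap_mk (f := algebraMap R B) (H := Ideal.le_comap_map) (x := r)).symm
    let qb : Ideal (R ⧸ I.map (algebraMap A R)) := q.asIdeal.map (Ideal.Quotient.mk _)
    haveI : qb.IsPrime := Ideal.map_isPrime_of_surjective Ideal.Quotient.mk_surjective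
      (by rw [Ideal.mk_ker]; exact hq')
    let Q : Ideal B := qb.comap π
    haveI : Q.IsPrime := Ideal.IsPrime.comap π
    have hQq : Q.comap (algebraMap R B) = q.asIdeal := by
      ext r
      simp only [Q, Ideal.mem_comap, hπ, qb]
      rw [← Ideal.mem_comap, Ideal.comap_map_of_surjective _ Ideal.Quotient.mk_surjective,
        ← RingHom.ker_eq_comap_bot, Ideal.mk_ker, sup_eq_left.2 hq']
    haveI : Q.LiesOver q.asIdeal := ⟨hQq.symm⟩
    letI := Localization.AtPrime.algebraOfLiesOver q.asIdeal Q
    haveI : Module.Flat B (Localization.AtPrime Q) := IsLocalization.flat _ Q.primeCompl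
    haveI : Module.Flat R (Localization.AtPrime Q) := Module.Flat.trans R B _
    haveI : Module.Flat (Localization.AtPrime q.asIdeal) (Localization.AtPrime Q) :=
      (Module.flat_iff_of_isLocalization (Localization.AtPrime q.asIdeal) q.asIdeal.primeCompl _).mpr
        inferInstance
    haveI : Module.Flat A (Localization.AtPrime Q) := Module.Flat.trans A B _
    haveI : Module.FaithfullyFlat (Localization.AtPrime q.asIdeal) (Localization.AtPrime Q) :=
      Module.FaithfullyFlat.of_flat_of_isLocalHom
    haveI : IsScalarTower A (Localization.AtPrime q.asIdeal) (Localization.AtPrime Q) :=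
      IsScalarTower.to₁₃₄ A R (Localization.AtPrime q.asIdeal) (Localization.AtPrime Q)
    exact Groth.DescentBase.flat_of_flat_of_faithfullyFlat A (Localization.AtPrime q.asIdeal)
      (Localization.AtPrime Q)
  obtain ⟨g, hg, hgU⟩ := exists_basicOpen_subset_of_zeroLocus_subset _
    (Groth.FlatMorOne.isOpen_flatLocus A R R) hsub
  obtain ⟨_, _, hfp, hh⟩ := exists_localization hB g hg
  refine ⟨Localization.Away g, inferInstance, inferInstance, inferInstance, inferInstance, hfp, ?_, hh⟩
  refine Module.flat_of_isLocalized_maximal (R := A) (Localization.Away g) (Localization.Away g)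
    (fun P _ => Localization.AtPrime P) (fun P _ => Algebra.linearMap (Localization.Away g) (Localization.AtPrime P))
    fun P _ => ?_
  let q : Ideal R := P.comap (algebraMap R (Localization.Away g))
  haveI : IsLocalization.AtPrime (Localization.AtPrime P) q :=
    IsLocalization.isLocalization_isLocalization_atPrime_isLocalization (Submonoid.powers g) _ P
  have hq : (⟨q, Ideal.IsPrime.comap _⟩ : PrimeSpectrum R) ∈ PrimeSpectrum.basicOpen g := fun h =>
    ‹P.IsMaximal›.ne_top (P.eq_top_of_isUnit_mem h (IsLocalization.Away.algebraMap_isUnit g))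
  haveI : Module.Flat A (Localization.AtPrime q) := hgU hq
  exact Module.Flat.of_linearEquiv
    ((IsLocalization.algEquiv q.primeCompl (Localization.AtPrime P) (Localization.AtPrime q)).restrictScalars A).toLinearEquiv

theorem nonempty_baseChange_algEquiv {A : Type u} [CommRing A] {I : Ideal A} {R B : Type u} [CommRing R]
    [CommRing B] [Algebra A R] [Algebra R B] [Algebra A B] [IsScalarTower A R B]
    (hB : IsPairHenselization R (I.map (algebraMap A R)) B) :
    Nonempty (((A ⧸ I ^ 1) ⊗[A] R) ≃ₐ[A ⧸ I ^ 1] (B ⧸ (I ^ 1).map (algebraMap A B))) := by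
  obtain ⟨e⟩ := nonempty_quotPow_algEquiv I hB 1
  exact ⟨AlgEquiv.extendScalarsOfSurjective Ideal.Quotient.mk_surjective
    (((Algebra.TensorProduct.comm A (A ⧸ I ^ 1) R).trans
      ((Algebra.TensorProduct.quotIdealMapEquivTensorQuot (A := A) R (I ^ 1)).symm.restrictScalars A)).trans
      (e.restrictScalars A))⟩

theorem exists_smooth {A : Type u} [CommRing A] {I : Ideal A} {R B : Type u} [CommRing R]
    [CommRing B] [Algebra A R] [Algebra R B] [Algebra A B] [IsScalarTower A R B]
    [Algebra.FinitePresentation A R] [Module.Flat A R]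
    (hB : IsPairHenselization R (I.map (algebraMap A R)) B)
    [Algebra.FormallySmooth (A ⧸ I ^ 1) (B ⧸ (I ^ 1).map (algebraMap A B))] :
    ∃ (S : Type u) (_ : CommRing S) (_ : Algebra A S) (_ : Algebra S B) (_ : IsScalarTower A S B),
      Algebra.Smooth A S ∧ IsPairHenselization S (I.map (algebraMap A S)) B := by
  obtain ⟨e⟩ := nonempty_baseChange_algEquiv hB
  haveI : Algebra.FormallySmooth (A ⧸ I ^ 1) ((A ⧸ I ^ 1) ⊗[A] R) := .of_equiv e.symm
  have hsub : PrimeSpectrum.zeroLocus (I.map (algebraMap A R) : Set R) ⊆ Algebra.smoothLocus A R := by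
    intro q hq
    rw [PrimeSpectrum.mem_zeroLocus] at hq
    let p := q.asIdeal.under A
    have hIp : I ≤ p := Ideal.map_le_iff_le_comap.1 hq
    let j : (A ⧸ I ^ 1) →ₐ[A] p.ResidueField := Ideal.Quotient.liftₐ (I ^ 1) (Algebra.ofId A p.ResidueField)
      fun a ha => Ideal.algebraMap_residueField_eq_zero.2 (hIp (by rwa [pow_one] at ha))
    letI : Algebra (A ⧸ I ^ 1) p.ResidueField := j.toRingHom.toAlgebra
    haveI : IsScalarTower A (A ⧸ I ^ 1) p.ResidueField :=
      IsScalarTower.of_algebraMap_eq fun a => (j.commutes a).symm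
    haveI : Algebra.FormallySmooth p.ResidueField (p.Fiber R) := Algebra.FormallySmooth.of_equiv
      (Algebra.TensorProduct.cancelBaseChange A (A ⧸ I ^ 1) p.ResidueField p.ResidueField R)
    exact Algebra.IsSmoothAt.of_formallySmooth_fiber p q.asIdeal
  obtain ⟨g, hg, hgU⟩ := exists_basicOpen_subset_of_zeroLocus_subset _ Algebra.isOpen_smoothLocus hsub
  obtain ⟨_, _, hfp, hh⟩ := exists_localization hB g hg
  exact ⟨Localization.Away g, inferInstance, inferInstance, inferInstance, inferInstance,
    ⟨Algebra.basicOpen_subset_smoothLocus_iff.1 hgU, hfp⟩, hh⟩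

theorem exists_etale {A : Type u} [CommRing A] {I : Ideal A} {R B : Type u} [CommRing R]
    [CommRing B] [Algebra A R] [Algebra R B] [Algebra A B] [IsScalarTower A R B]
    [Algebra.FinitePresentation A R] [Module.Flat A R]
    (hB : IsPairHenselization R (I.map (algebraMap A R)) B)
    [Algebra.FormallyUnramified (A ⧸ I ^ 1) (B ⧸ (I ^ 1).map (algebraMap A B))] :
    ∃ (S : Type u) (_ : CommRing S) (_ : Algebra A S) (_ : Algebra S B) (_ : IsScalarTower A S B),
      Algebra.Etale A S ∧ IsPairHenselization S (I.map (algebraMap A S)) B := by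
  obtain ⟨e⟩ := nonempty_baseChange_algEquiv hB
  haveI : Algebra.FormallyUnramified (A ⧸ I ^ 1) ((A ⧸ I ^ 1) ⊗[A] R) := .of_equiv e.symm
  letI : Algebra R ((A ⧸ I ^ 1) ⊗[A] R) := Algebra.TensorProduct.rightAlgebra
  haveI : Subsingleton ((A ⧸ I ^ 1) ⊗[A] Ω[R⁄A]) :=
    (KaehlerDifferential.tensorKaehlerEquivBase A (A ⧸ I ^ 1) R ((A ⧸ I ^ 1) ⊗[A] R)).toEquiv.subsingleton
  haveI : Subsingleton (Ω[R⁄A] ⧸ ((I ^ 1) • (⊤ : Submodule A Ω[R⁄A]))) :=
    (TensorProduct.quotTensorEquivQuotSMul Ω[R⁄A] (I ^ 1)).symm.toEquiv.subsingleton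
  have htop : ((I ^ 1) • (⊤ : Submodule A Ω[R⁄A])) = ⊤ := Submodule.Quotient.subsingleton_iff.1 inferInstance
  have hle : (⊤ : Submodule R Ω[R⁄A]) ≤ (I.map (algebraMap A R)) • ⊤ := by
    intro x _
    have hx : x ∈ ((I ^ 1) • (⊤ : Submodule A Ω[R⁄A])) := by rw [htop]; trivial
    refine Submodule.smul_induction_on hx (fun a ha y _ => ?_) fun y z hy hz => Submodule.add_mem _ hy hz
    rw [← IsScalarTower.algebraMap_smul R a y]
    exact Submodule.smul_mem_smul (Ideal.mem_map_of_mem _ (by rwa [pow_one] at ha)) Submodule.mem_top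
  obtain ⟨g, hg, hg0⟩ := Submodule.exists_sub_one_mem_and_smul_eq_zero_of_fg_of_le_smul _ _
    Module.Finite.fg_top hle
  obtain ⟨_, _, hfp, hh⟩ := exists_localization hB g hg
  haveI := hfp
  haveI : Module.Flat R (Localization.Away g) := IsLocalization.flat _ (Submonoid.powers g)
  haveI : Module.Flat A (Localization.Away g) := Module.Flat.trans A R _
  haveI : Algebra.FormallyUnramified A (Localization.Away g) :=
    Algebra.basicOpen_subset_unramifiedLocus_iff.1 (by
      rw [Algebra.unramifiedLocus_eq_compl_support]
      intro q hq hmem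
      obtain ⟨m, hm⟩ := Module.mem_support_iff'.1 hmem
      exact hm g hq (hg0 m Submodule.mem_top))
  exact ⟨Localization.Away g, inferInstance, inferInstance, inferInstance, inferInstance,
    Algebra.Etale.of_formallyUnramified_of_flat, hh⟩

end Groth.Misc12.HensSpread
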