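import Groth.Agent.HensPair.Universal
import Groth.Agent.HensPair.Truncation
import Groth.Agent.S0536
import Groth.Agent.S17596
import Groth.Agent.S17597
import Groth.Agent.S17609

/-! Covers of formally smooth maps of henselian pairs by h-smooth ones. -/

set_option autoImplicit false
set_option linter.style.haveILetI false
universe u

open TensorProduct

namespace Groth.Misc12.HensSpread

open Hens2 Groth.HensPair

theorem exists_cover {A : Type u} [CommRing A] (I : Ideal A) [HenselianRing A I]
    {R₀ : Type u} [CommRing R₀] [Algebra A R₀] [Algebra.FinitePresentation A R₀]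
    {B : Type u} [CommRing B] [Algebra R₀ B] [Algebra A B] [IsScalarTower A R₀ B]
    (hB : IsPairHenselization R₀ (I.map (algebraMap A R₀)) B)
    (hsm : ∀ r : ℕ, 1 ≤ r → Algebra.FormallySmooth (A ⧸ I ^ r) (B ⧸ (I ^ r).map (algebraMap A B)))
    (R : Type u) [CommRing R] [Algebra A R] [Algebra.Smooth A R]
    (σ : R →ₐ[A] B ⧸ I.map (algebraMap A B)) (hσ : Function.Surjective σ)
    (hker : ∀ x : R, σ x = 0 → x ∈ I.map (algebraMap A R)) :
    ∃ (H : Type u) (_ : CommRing H) (_ : Algebra R H)
      (_ : Algebra A H) (_ : IsScalarTower A R H),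
      IsPairHenselization R (I.map (algebraMap A R)) H ∧
      ∃ φ : H →ₐ[A] B, Function.Surjective φ ∧ (RingHom.ker φ).FG ∧
        ∀ n : ℕ, RingHom.ker φ ≤ (I ^ n).map (algebraMap A H) := by
  have hBI : HenselianRing B (I.map (algebraMap A B)) := by
    have h := hB.1
    rwa [Ideal.map_map, ← IsScalarTower.algebraMap_eq] at h
  obtain ⟨τ, hτ⟩ := Groth.Agent.S0536.result A R B (I.map (algebraMap A B)) σ
  let J := I.map (algebraMap A R)
  let H := Hz J
  letI : Algebra A H := ((algebraMap R H).comp (algebraMap A R)).toAlgebra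
  haveI : IsScalarTower A R H := IsScalarTower.of_algebraMap_eq fun _ => rfl
  have hH : IsPairHenselization R J H := isPairHenselization J
  have hHI : HenselianRing H (I.map (algebraMap A H)) := by
    have h := hH.1
    rwa [Ideal.map_map, ← IsScalarTower.algebraMap_eq] at h
  obtain ⟨g, hg, -⟩ := hH.2 B (I.map (algebraMap A B)) τ.toRingHom hBI (by
    rw [Ideal.map_map, show τ.toRingHom.comp (algebraMap A R) = algebraMap A B from τ.comp_algebraMap])
  have hgR : ∀ x : R, g (algebraMap R H x) = τ x := fun x => RingHom.congr_fun hg x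
  let φ : H →ₐ[A] B :=
    { g with
      commutes' := fun a => by
        show g (algebraMap R H (algebraMap A R a)) = _
        rw [hgR, AlgHom.commutes] }
  letI : Algebra H B := φ.toRingHom.toAlgebra
  haveI : IsScalarTower A H B := IsScalarTower.of_algebraMap_eq fun a => (φ.commutes a).symm
  haveI : Algebra.FinitePresentation A R := inferInstance
  obtain ⟨T, _, _, _, _, hT, hBT⟩ := Groth.Agent.S17609.result A I R H hH R₀ B hB
  haveI := hT
  have hmapB : (I.map (algebraMap A H)).map (algebraMap H B) = I.map (algebraMap A B) := by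
    rw [Ideal.map_map, ← IsScalarTower.algebraMap_eq]
  have hsq : Function.Surjective (Ideal.quotientMap ((I.map (algebraMap A H)).map (algebraMap H B))
      (algebraMap H B) Ideal.le_comap_map) := by
    intro y
    obtain ⟨b, rfl⟩ := Ideal.Quotient.mk_surjective y
    obtain ⟨x, hx⟩ := hσ (Ideal.Quotient.mk _ b)
    refine ⟨Ideal.Quotient.mk _ (algebraMap R H x), ?_⟩
    rw [Ideal.quotientMap_mk, Ideal.Quotient.eq, hmapB, ← Ideal.Quotient.eq, ← hx, ← hτ]
    show Ideal.Quotient.mk (I.map (algebraMap A B)) (g (algebraMap R H x)) = _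
    rw [hgR]
    rfl
  obtain ⟨-, hfp⟩ := Groth.Agent.S17596.result H (I.map (algebraMap A H)) T B hBT
    (RingHom.Finite.of_surjective _ hsq)
  have hsurj : Function.Surjective φ :=
    Groth.Agent.S17597.result H (I.map (algebraMap A H)) T B hBT hsq
  haveI := hfp
  refine ⟨H, inferInstance, inferInstance, inferInstance, inferInstance, hH, φ, hsurj, ?_, ?_⟩
  · exact Algebra.FinitePresentation.ker_fG_of_surjective (Algebra.ofId H B) hsurj
  intro n
  rcases Nat.eq_zero_or_pos n with rfl | hn
  · simp [Ideal.one_eq_top, Ideal.map_top]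
  intro h hh
  -- modulo `I`
  have hone : RingHom.ker φ ≤ I.map (algebraMap A H) := by
    intro h hh
    obtain ⟨x, hx⟩ := exists_sub_mem hH h
    rw [Ideal.map_map, ← IsScalarTower.algebraMap_eq] at hx
    have h1 := Ideal.mem_map_of_mem φ.toRingHom hx
    rw [Ideal.map_map, AlgHom.toRingHom_eq_coe, AlgHom.comp_algebraMap] at h1
    have hxB : σ x = 0 := by
      rw [← hτ]
      show Ideal.Quotient.mk (I.map (algebraMap A B)) (τ x) = 0
      rw [Ideal.Quotient.eq_zero_iff_mem, ← hgR]
      have : φ h = 0 := hh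
      simp only [RingHom.coe_coe, map_sub, this, zero_sub, neg_mem_iff] at h1
      exact h1
    have h2 := add_mem hx (Ideal.mem_map_of_mem (algebraMap R H) (hker x hxB) |> fun h => by
      rwa [Ideal.map_map, ← IsScalarTower.algebraMap_eq] at h)
    rwa [sub_add_cancel] at h2
  let In := I ^ n
  have hle : In.map (algebraMap A H) ≤ (In.map (algebraMap A B)).comap φ := by
    rw [Ideal.map_le_iff_le_comap]
    intro a ha
    show φ (algebraMap A H a) ∈ In.map (algebraMap A B)
    rw [AlgHom.commutes]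
    exact Ideal.mem_map_of_mem _ ha
  let p₀ : (H ⧸ In.map (algebraMap A H)) →ₐ[A] (B ⧸ In.map (algebraMap A B)) :=
    Ideal.quotientMapₐ _ φ hle
  let p : (H ⧸ In.map (algebraMap A H)) →ₐ[A ⧸ In] (B ⧸ In.map (algebraMap A B)) :=
    { p₀ with
      commutes' := fun q => by
        obtain ⟨a, rfl⟩ := Ideal.Quotient.mk_surjective q
        exact p₀.commutes a }
  have hp : Function.Surjective p := fun y => by
    obtain ⟨b, rfl⟩ := Ideal.Quotient.mk_surjective y
    obtain ⟨z, rfl⟩ := hsurj b
    exact ⟨Ideal.Quotient.mk _ z, rfl⟩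
  let M : Ideal (H ⧸ In.map (algebraMap A H)) := (I.map (algebraMap A H)).map (Ideal.Quotient.mk _)
  have hM : M ^ n = ⊥ := by
    show ((I.map (algebraMap A H)).map (Ideal.Quotient.mk _)) ^ n = ⊥
    rw [← Ideal.map_pow, ← Ideal.map_pow, Ideal.map_quotient_self]
  have hpker : RingHom.ker p ≤ M := by
    intro q hq
    obtain ⟨z, rfl⟩ := Ideal.Quotient.mk_surjective q
    have hq' : Ideal.Quotient.mk (In.map (algebraMap A B)) (φ z) = 0 := hq
    rw [Ideal.Quotient.eq_zero_iff_mem] at hq'
    have : In.map (algebraMap A B) = (In.map (algebraMap A H)).map φ.toRingHom := by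
      rw [Ideal.map_map, AlgHom.toRingHom_eq_coe, AlgHom.comp_algebraMap]
    rw [this, Ideal.mem_map_iff_of_surjective φ.toRingHom hsurj] at hq'
    obtain ⟨w, hw, hwz⟩ := hq'
    have hk : z - w ∈ RingHom.ker φ := by
      rw [RingHom.mem_ker, map_sub]
      exact sub_eq_zero.2 hwz.symm
    refine Ideal.mem_map_of_mem _ ?_
    have h2 := add_mem (hone hk) (Ideal.map_mono (Ideal.pow_le_self hn.ne') hw :
      w ∈ I.map (algebraMap A H))
    rwa [sub_add_cancel] at h2
  haveI := hsm n hn
  have hnil : IsNilpotent (RingHom.ker (p : (H ⧸ In.map (algebraMap A H)) →+* (B ⧸ In.map (algebraMap A B)))) :=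
    ⟨n, le_bot_iff.1 ((Ideal.pow_right_mono (show RingHom.ker (p : (H ⧸ In.map (algebraMap A H)) →+* (B ⧸ In.map (algebraMap A B))) ≤ M from hpker) n).trans hM.le)⟩
  let s : (B ⧸ In.map (algebraMap A B)) →ₐ[A ⧸ In] (H ⧸ In.map (algebraMap A H)) :=
    Algebra.FormallySmooth.liftOfSurjective (AlgHom.id _ _) p hp hnil
  have hs : ∀ y, p (s y) = y := fun y => Algebra.FormallySmooth.liftOfSurjective_apply _ _ _ _ y
  have hs' : ∀ q : H ⧸ In.map (algebraMap A H), ∃ y, s y - q ∈ M ^ n := by
    suffices ∀ k, ∀ q : H ⧸ In.map (algebraMap A H), ∃ y, s y - q ∈ M ^ k from this n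
    have hM1 : ∀ k, M ^ k = ((I ^ k).map (algebraMap A (H ⧸ In.map (algebraMap A H)))) := fun k => by
      show ((I.map (algebraMap A H)).map (Ideal.Quotient.mk _)) ^ k = _
      rw [Ideal.map_map, ← Ideal.map_pow]
      rfl
    intro k
    induction k with
    | zero => exact fun q => ⟨0, by simp⟩
    | succ k ih =>
      intro q
      obtain ⟨y, hy⟩ := ih q
      suffices ∀ z ∈ M ^ k, ∃ y', s y' - z ∈ M ^ (k + 1) by
        obtain ⟨y', hy'⟩ := this _ (neg_mem hy)
        refine ⟨y + y', ?_⟩
        rw [map_add]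
        convert hy' using 1
        ring
      intro z hz
      rw [hM1] at hz
      change z ∈ Ideal.span (_ '' _) at hz
      refine Submodule.span_induction (p := fun z _ => ∃ y', s y' - z ∈ M ^ (k + 1)) ?_ ?_ ?_ ?_ hz
      · rintro _ ⟨a, -, rfl⟩
        refine ⟨algebraMap (A ⧸ In) _ (Ideal.Quotient.mk In a), ?_⟩
        rw [s.commutes]
        convert (M ^ (k + 1)).zero_mem
        exact sub_eq_zero.2 rfl
      · exact ⟨0, by simp⟩
      · rintro u v - - ⟨b, hb⟩ ⟨c, hc⟩
        exact ⟨b + c, by rw [map_add, add_sub_add_comm]; exact add_mem hb hc⟩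
      · rintro c u hu ⟨b, hb⟩
        have hu' : u ∈ M ^ k := by rw [hM1]; exact hu
        have hc : ∃ y₁, s y₁ - c ∈ M := by
          refine ⟨p c, ?_⟩
          apply hpker
          rw [RingHom.mem_ker, map_sub, hs, sub_self]
        obtain ⟨y₁, hy₁⟩ := hc
        refine ⟨y₁ * b, ?_⟩
        rw [map_mul, smul_eq_mul, show s y₁ * s b - c * u = s y₁ * (s b - u) + (s y₁ - c) * u by ring]
        exact add_mem (Ideal.mul_mem_left _ _ hb) (by rw [pow_succ']; exact Ideal.mul_mem_mul hy₁ hu')
  obtain ⟨y, hy⟩ := hs' (Ideal.Quotient.mk _ h)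
  rw [hM, Ideal.mem_bot, sub_eq_zero] at hy
  have : y = 0 := by
    rw [← hs y, hy]
    show Ideal.Quotient.mk _ (φ h) = 0
    rw [show φ h = 0 from hh, map_zero]
  rw [this, map_zero] at hy
  exact Ideal.Quotient.eq_zero_iff_mem.1 hy.symm

end Groth.Misc12.HensSpread
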